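import Cfsg.Agent.Lib.H6.Y10TC.Steps3

set_option autoImplicit false
set_option maxRecDepth 1000000

/-! # invariant through part 3 of Y10 (generated) -/

namespace Cfsg.Agent.Lib.H6.Y10TC

open Cfsg.Agent.Lib.H17.CosetCert Cfsg.Agent.Lib.H6.TC

theorem part3 {G Q : Type} [Group G] [MulAction G Q] (γ : ℕ → G)
    (hiv : ∀ x < 10, γ (iv x) = (γ x)⁻¹) (q0 : Q) (hw : WordsOK γ q0 words)
    (h0 : Inv F 10 γ q0 75000 19308) : Inv F 10 γ q0 100000 27340 := by
  have h1 := checkSteps_sound F iv 10 262144 γ hiv q0 words hw steps75 75000 19308 19624 h0 chk75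
  rw [len75] at h1
  have h2 := checkSteps_sound F iv 10 262144 γ hiv q0 words hw steps76 76000 19624 19889 h1 chk76
  rw [len76] at h2
  have h3 := checkSteps_sound F iv 10 262144 γ hiv q0 words hw steps77 77000 19889 20177 h2 chk77
  rw [len77] at h3
  have h4 := checkSteps_sound F iv 10 262144 γ hiv q0 words hw steps78 78000 20177 20491 h3 chk78
  rw [len78] at h4
  have h5 := checkSteps_sound F iv 10 262144 γ hiv q0 words hw steps79 79000 20491 20810 h4 chk79
  rw [len79] at h5
  have h6 := checkSteps_sound F iv 10 262144 γ hiv q0 words hw steps80 80000 20810 21095 h5 chk80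
  rw [len80] at h6
  have h7 := checkSteps_sound F iv 10 262144 γ hiv q0 words hw steps81 81000 21095 21466 h6 chk81
  rw [len81] at h7
  have h8 := checkSteps_sound F iv 10 262144 γ hiv q0 words hw steps82 82000 21466 21892 h7 chk82
  rw [len82] at h8
  have h9 := checkSteps_sound F iv 10 262144 γ hiv q0 words hw steps83 83000 21892 22221 h8 chk83
  rw [len83] at h9
  have h10 := checkSteps_sound F iv 10 262144 γ hiv q0 words hw steps84 84000 22221 22508 h9 chk84
  rw [len84] at h10
  have h11 := checkSteps_sound F iv 10 262144 γ hiv q0 words hw steps85 85000 22508 22891 h10 chk85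
  rw [len85] at h11
  have h12 := checkSteps_sound F iv 10 262144 γ hiv q0 words hw steps86 86000 22891 23179 h11 chk86
  rw [len86] at h12
  have h13 := checkSteps_sound F iv 10 262144 γ hiv q0 words hw steps87 87000 23179 23432 h12 chk87
  rw [len87] at h13
  have h14 := checkSteps_sound F iv 10 262144 γ hiv q0 words hw steps88 88000 23432 23701 h13 chk88
  rw [len88] at h14
  have h15 := checkSteps_sound F iv 10 262144 γ hiv q0 words hw steps89 89000 23701 23986 h14 chk89
  rw [len89] at h15
  have h16 := checkSteps_sound F iv 10 262144 γ hiv q0 words hw steps90 90000 23986 24286 h15 chk90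
  rw [len90] at h16
  have h17 := checkSteps_sound F iv 10 262144 γ hiv q0 words hw steps91 91000 24286 24607 h16 chk91
  rw [len91] at h17
  have h18 := checkSteps_sound F iv 10 262144 γ hiv q0 words hw steps92 92000 24607 24896 h17 chk92
  rw [len92] at h18
  have h19 := checkSteps_sound F iv 10 262144 γ hiv q0 words hw steps93 93000 24896 25189 h18 chk93
  rw [len93] at h19
  have h20 := checkSteps_sound F iv 10 262144 γ hiv q0 words hw steps94 94000 25189 25492 h19 chk94
  rw [len94] at h20
  have h21 := checkSteps_sound F iv 10 262144 γ hiv q0 words hw steps95 95000 25492 25847 h20 chk95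
  rw [len95] at h21
  have h22 := checkSteps_sound F iv 10 262144 γ hiv q0 words hw steps96 96000 25847 26183 h21 chk96
  rw [len96] at h22
  have h23 := checkSteps_sound F iv 10 262144 γ hiv q0 words hw steps97 97000 26183 26522 h22 chk97
  rw [len97] at h23
  have h24 := checkSteps_sound F iv 10 262144 γ hiv q0 words hw steps98 98000 26522 26938 h23 chk98
  rw [len98] at h24
  have h25 := checkSteps_sound F iv 10 262144 γ hiv q0 words hw steps99 99000 26938 27340 h24 chk99
  rw [len99] at h25
  exact h25

end Cfsg.Agent.Lib.H6.Y10TC
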