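import Cfsg.Agent.Lib.H6.Y10TC.Steps9

set_option autoImplicit false
set_option maxRecDepth 1000000

/-! # invariant through part 9 of Y10 (generated) -/

namespace Cfsg.Agent.Lib.H6.Y10TC

open Cfsg.Agent.Lib.H17.CosetCert Cfsg.Agent.Lib.H6.TC

theorem part9 {G Q : Type} [Group G] [MulAction G Q] (γ : ℕ → G)
    (hiv : ∀ x < 10, γ (iv x) = (γ x)⁻¹) (q0 : Q) (hw : WordsOK γ q0 words)
    (h0 : Inv F 10 γ q0 225000 49793) : Inv F 10 γ q0 245706 53361 := by
  have h1 := checkSteps_sound F iv 10 262144 γ hiv q0 words hw steps225 225000 49793 49952 h0 chk225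
  rw [len225] at h1
  have h2 := checkSteps_sound F iv 10 262144 γ hiv q0 words hw steps226 226000 49952 50126 h1 chk226
  rw [len226] at h2
  have h3 := checkSteps_sound F iv 10 262144 γ hiv q0 words hw steps227 227000 50126 50320 h2 chk227
  rw [len227] at h3
  have h4 := checkSteps_sound F iv 10 262144 γ hiv q0 words hw steps228 228000 50320 50532 h3 chk228
  rw [len228] at h4
  have h5 := checkSteps_sound F iv 10 262144 γ hiv q0 words hw steps229 229000 50532 50739 h4 chk229
  rw [len229] at h5
  have h6 := checkSteps_sound F iv 10 262144 γ hiv q0 words hw steps230 230000 50739 50876 h5 chk230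
  rw [len230] at h6
  have h7 := checkSteps_sound F iv 10 262144 γ hiv q0 words hw steps231 231000 50876 51038 h6 chk231
  rw [len231] at h7
  have h8 := checkSteps_sound F iv 10 262144 γ hiv q0 words hw steps232 232000 51038 51218 h7 chk232
  rw [len232] at h8
  have h9 := checkSteps_sound F iv 10 262144 γ hiv q0 words hw steps233 233000 51218 51406 h8 chk233
  rw [len233] at h9
  have h10 := checkSteps_sound F iv 10 262144 γ hiv q0 words hw steps234 234000 51406 51607 h9 chk234
  rw [len234] at h10
  have h11 := checkSteps_sound F iv 10 262144 γ hiv q0 words hw steps235 235000 51607 51745 h10 chk235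
  rw [len235] at h11
  have h12 := checkSteps_sound F iv 10 262144 γ hiv q0 words hw steps236 236000 51745 51914 h11 chk236
  rw [len236] at h12
  have h13 := checkSteps_sound F iv 10 262144 γ hiv q0 words hw steps237 237000 51914 52108 h12 chk237
  rw [len237] at h13
  have h14 := checkSteps_sound F iv 10 262144 γ hiv q0 words hw steps238 238000 52108 52285 h13 chk238
  rw [len238] at h14
  have h15 := checkSteps_sound F iv 10 262144 γ hiv q0 words hw steps239 239000 52285 52439 h14 chk239
  rw [len239] at h15
  have h16 := checkSteps_sound F iv 10 262144 γ hiv q0 words hw steps240 240000 52439 52642 h15 chk240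
  rw [len240] at h16
  have h17 := checkSteps_sound F iv 10 262144 γ hiv q0 words hw steps241 241000 52642 52791 h16 chk241
  rw [len241] at h17
  have h18 := checkSteps_sound F iv 10 262144 γ hiv q0 words hw steps242 242000 52791 52963 h17 chk242
  rw [len242] at h18
  have h19 := checkSteps_sound F iv 10 262144 γ hiv q0 words hw steps243 243000 52963 53117 h18 chk243
  rw [len243] at h19
  have h20 := checkSteps_sound F iv 10 262144 γ hiv q0 words hw steps244 244000 53117 53267 h19 chk244
  rw [len244] at h20
  have h21 := checkSteps_sound F iv 10 262144 γ hiv q0 words hw steps245 245000 53267 53361 h20 chk245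
  rw [len245] at h21
  exact h21

end Cfsg.Agent.Lib.H6.Y10TC
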